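import Cfsg.Agent.CosetCert.Fi23H10.Check
import Cfsg.Agent.Fi23Transp.Main

/-!
Points of the table as transpositions of Fi23.
-/

set_option maxRecDepth 100000

namespace Cfsg.Agent.CosetCert.Fi23H10

open Cfsg.Agent.CosetCert Cfsg.Spor

/-- The element of a word in the numbers of the generators. -/
abbrev ew (w : List Nat) : Fi23 := Fi23Transp.el (w.map Fi23Index31671.dec)

theorem code_dec (w : List Nat) (hw : ∀ x ∈ w, x < 10) :
    (w.map Fi23Index31671.dec).map (Data.code D.iv Fi23Index31671.enc) = w := by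
  rw [List.map_map]
  conv_rhs => rw [← List.map_id w]
  exact List.map_congr_left fun x hx => Fi23Index31671.spells.code_dec x (hw x hx)

/-- The table action with what is needed about it. -/
structure Ctx where
  φ : Fi23 →* Equiv.Perm (Fin 31671)
  inj : Function.Injective φ
  π : Fin 31671 ≃ Fi23 ⧸ Fi23Centralizer.H
  hπ : ∀ g c, π (φ g c) = g • π c
  hfwd : ∀ (l : List (Fi23.Gen × Bool)) (c : Fin 31671),
      (((φ (Fi23Transp.el l))⁻¹ c : Fin 31671) : Nat) =
        D.fwd (l.map (Data.code D.iv Fi23Index31671.enc)) c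

theorem exists_ctx : Nonempty Ctx := by
  obtain ⟨φ, π, hπ, hfwd⟩ := Data.enumeration Fi23Index31671.valid Fi23Index31671.spells
  exact ⟨⟨φ, (Data.order_eq Fi23Index31671.valid Fi23Index31671.spells φ hfwd
    Fi23Order.card_bound.1 Fi23Order.card_bound.2 Fi23Order.levels Fi23Order.levels_ok
    (by decide +kernel)).1, π, hπ, hfwd⟩⟩

namespace Ctx

variable (X : Ctx)

theorem fwd_ew {w : List Nat} (hw : ∀ x ∈ w, x < 10) (c : Fin 31671) :
    (((X.φ (ew w))⁻¹ c : Fin 31671) : Nat) = D.fwd w c := by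
  rw [X.hfwd, code_dec w hw]

theorem code_lt (l : List (Fi23.Gen × Bool)) :
    ∀ x ∈ l.map (Data.code D.iv Fi23Index31671.enc), x < 10 := by
  intro x hx
  obtain ⟨⟨b, s⟩, -, rfl⟩ := List.mem_map.1 hx
  cases b <;> cases s <;> decide

include X in
theorem exists_word (g : Fi23) : ∃ w : List Nat, (∀ x ∈ w, x < 10) ∧ g = ew w := by
  obtain ⟨f, rfl⟩ := PresentedGroup.mk_surjective _ g
  refine ⟨f.toWord.map (Data.code D.iv Fi23Index31671.enc), code_lt _, ?_⟩
  conv_lhs => rw [← FreeGroup.mk_toWord (x := f)]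
  apply X.inj
  apply inv_injective
  ext c
  rw [X.fwd_ew (code_lt _)]
  exact X.hfwd f.toWord c

/-- The base point. -/
def zero : Fin 31671 := ⟨0, by norm_num⟩

theorem fix_zero {g : Fi23} :
    X.φ g zero = zero ↔ g ∈ Fi23Centralizer.H := by
  have hbase : ∀ moved : (∀ c, c < 31671 → movedOK c = true),
      X.π zero = QuotientGroup.mk 1 := by
    intro hmoved
    let c : Fin 31671 := X.π.symm (QuotientGroup.mk 1)
    have hc : X.π c = QuotientGroup.mk 1 := X.π.apply_symm_apply _
    have hfix : ∀ h ∈ Fi23Centralizer.H, X.φ h c = c := by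
      intro h hh
      apply X.π.injective
      rw [X.hπ, hc]
      exact QuotientGroup.eq.2 (by simpa using hh)
    suffices h0 : (c : Nat) = 0 by
      rw [← hc]; congr 1; exact Fin.ext h0.symm
    have hm := hmoved c c.2
    simp only [movedOK, Bool.or_eq_true, List.any_eq_true, Bool.not_eq_true'] at hm
    rcases hm with hm | ⟨x, hx, hne⟩
    · exact Nat.eq_of_beq_eq_true hm
    · exfalso
      have hgen : ∃ y : Fi22.Gen, x = Fi23Index31671.enc (Fi23Centralizer.toGen y) := by
        fin_cases hx <;>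
        first
          | exact ⟨.a, rfl⟩ | exact ⟨.b, rfl⟩ | exact ⟨.c, rfl⟩ | exact ⟨.d, rfl⟩
          | exact ⟨.e, rfl⟩ | exact ⟨.f, rfl⟩ | exact ⟨.g, rfl⟩ | exact ⟨.h, rfl⟩
          | exact ⟨.i, rfl⟩
      obtain ⟨y, rfl⟩ := hgen
      have h1 := X.fwd_ew (w := [Fi23Index31671.enc (Fi23Centralizer.toGen y)])
        (by intro z hz; rw [List.mem_singleton] at hz; subst hz; cases y <;> decide) c
      rw [show D.fwd [Fi23Index31671.enc (Fi23Centralizer.toGen y)] c =
          D.T c (Fi23Index31671.enc (Fi23Centralizer.toGen y)) by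
        simp [Data.fwd_cons, Data.fwd_nil]] at h1
      have hmem : ew [Fi23Index31671.enc (Fi23Centralizer.toGen y)] ∈ Fi23Centralizer.H := by
        have e : Fi23Index31671.dec (Fi23Index31671.enc (Fi23Centralizer.toGen y)) =
            (Fi23Centralizer.toGen y, true) :=
          (Fi23Index31671.spells.enc_lt _).2
        show Fi23Transp.el [Fi23Index31671.dec _] ∈ _
        rw [e]
        exact Subgroup.mem_map_of_mem _ (Subgroup.subset_closure (Fi23Centralizer.toGen_mem y))
      have h2 := hfix _ (inv_mem hmem)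
      rw [map_inv] at h2
      rw [h2] at h1
      rw [← h1] at hne
      simp at hne
  have hb : X.π zero = QuotientGroup.mk 1 := hbase fun c hc =>
    (allFrom_iff _ _ _).1 moved_ok c
      (Nat.zero_le _) (by omega)
  rw [← X.π.apply_eq_iff_eq, X.hπ, hb]
  constructor
  · intro h
    have h' : QuotientGroup.mk (g * 1) = (QuotientGroup.mk 1 : Fi23 ⧸ Fi23Centralizer.H) := h
    rw [mul_one] at h'
    simpa using QuotientGroup.eq.1 h'.symm
  · intro h
    show QuotientGroup.mk (g * 1) = (QuotientGroup.mk 1 : Fi23 ⧸ Fi23Centralizer.H)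
    rw [mul_one]
    exact QuotientGroup.eq.2 (by simpa using h)

theorem transitive (c : Fin 31671) : ∃ g : Fi23, X.φ g zero = c := by
  obtain ⟨g0, hg0⟩ := QuotientGroup.mk_surjective (X.π zero)
  obtain ⟨g1, hg1⟩ := QuotientGroup.mk_surjective (X.π c)
  refine ⟨g1 * g0⁻¹, X.π.injective ?_⟩
  rw [X.hπ, ← hg0, ← hg1]
  show QuotientGroup.mk (g1 * g0⁻¹ * g0) = _
  rw [inv_mul_cancel_right]

/-- The transposition of a point. -/
noncomputable def tr (c : Fin 31671) : Fi23 :=
  (X.transitive c).choose * Fi23Transp.z * (X.transitive c).choose⁻¹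

theorem tr_eq {g : Fi23} {c : Fin 31671} (h : X.φ g zero = c) :
    X.tr c = g * Fi23Transp.z * g⁻¹ := by
  have h0 := (X.transitive c).choose_spec
  set a := (X.transitive c).choose with ha
  have hfix : X.φ (g⁻¹ * a) zero = zero := by
    rw [map_mul, Equiv.Perm.mul_apply, h0, map_inv, Equiv.Perm.inv_eq_iff_eq, h]
  have hc : g⁻¹ * a ∈ Subgroup.centralizer ({Fi23Transp.z} : Set Fi23) :=
    Fi23Transp.main.2.2.2 ▸ X.fix_zero.1 hfix
  rw [Subgroup.mem_centralizer_singleton_iff] at hc
  show a * Fi23Transp.z * a⁻¹ = _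
  calc a * Fi23Transp.z * a⁻¹ = g * ((g⁻¹ * a) * Fi23Transp.z) * a⁻¹ := by group
    _ = g * (Fi23Transp.z * (g⁻¹ * a)) * a⁻¹ := by rw [hc]
    _ = g * Fi23Transp.z * g⁻¹ := by group

theorem tr_smul (g : Fi23) (c : Fin 31671) : X.tr (X.φ g c) = g * X.tr c * g⁻¹ := by
  obtain ⟨a, rfl⟩ := X.transitive c
  rw [X.tr_eq (g := g * a) (by rw [map_mul, Equiv.Perm.mul_apply]), X.tr_eq (g := a) rfl]
  group

theorem tr_injective : Function.Injective X.tr := by
  intro c d h
  obtain ⟨a, rfl⟩ := X.transitive c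
  obtain ⟨b, rfl⟩ := X.transitive d
  rw [X.tr_eq (g := a) rfl, X.tr_eq (g := b) rfl] at h
  have hc : b⁻¹ * a ∈ Subgroup.centralizer ({Fi23Transp.z} : Set Fi23) := by
    rw [Subgroup.mem_centralizer_singleton_iff]
    calc b⁻¹ * a * Fi23Transp.z = b⁻¹ * (a * Fi23Transp.z * a⁻¹) * a := by group
      _ = b⁻¹ * (b * Fi23Transp.z * b⁻¹) * a := by rw [h]
      _ = Fi23Transp.z * (b⁻¹ * a) := by group
  rw [Fi23Transp.main.2.2.2] at hc
  have := X.fix_zero.2 hc
  rw [map_mul, Equiv.Perm.mul_apply, map_inv, Equiv.Perm.inv_eq_iff_eq] at this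
  exact this

theorem tr_zero : X.tr zero = Fi23Transp.z := by
  rw [X.tr_eq (g := 1) (by rw [map_one]; rfl)]
  group

/-- The word of a path gives the transposition at its end. -/
theorem el_ptLetters {u : List Nat} (hu : ∀ x ∈ u, x < 10) (c : Fin 31671)
    (h : D.fwd u 0 = c) : Fi23Transp.el (ptLetters u) = X.tr c := by
  have e : (X.φ (ew u))⁻¹ zero = c := Fin.ext ((X.fwd_ew hu zero).trans h)
  rw [← map_inv] at e
  rw [X.tr_eq e, inv_inv]
  show Fi23Transp.el (_ ++ _ ++ _) = _
  rw [Fi23Transp.el_append, Fi23Transp.el_append, Fi23Transp.el_invRev]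

end Ctx

end Cfsg.Agent.CosetCert.Fi23H10
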