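import Cfsg.Agent.CosetCert.Fi23H10.Stab

/-!
The orders of the subgroup and of the kernel of its action on the set.
-/

set_option maxRecDepth 100000

namespace Cfsg.Agent.CosetCert.Fi23H10.Ctx

open Cfsg.Agent.CosetCert Cfsg.Spor

variable (X : Ctx)

theorem card0 : Nat.card (X.fixK []) = 324 * Nat.card (X.fixK [140]) :=
  X.card_step [] Fi23H10G.level0 [Fi23H10G.level1, Fi23H10G.level2, Fi23H10G.level3, Fi23H10G.level4, Fi23H10G.level5, Fi23H10G.level6, Fi23H10G.level7, Fi23H10G.level8, Fi23H10G.level9] Fi23H10H.level0 rfl (by decide +kernel) (by decide +kernel)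
    rfl hgens0 narrow0 (by decide +kernel) Fi23H10H.gens0_ok Fi23H10H.pts0_ok

theorem card1 : Nat.card (X.fixK [140]) = 27 * Nat.card (X.fixK [140, 488]) :=
  X.card_step [Fi23H10G.level0] Fi23H10G.level1 [Fi23H10G.level2, Fi23H10G.level3, Fi23H10G.level4, Fi23H10G.level5, Fi23H10G.level6, Fi23H10G.level7, Fi23H10G.level8, Fi23H10G.level9] Fi23H10H.level1 rfl (by decide +kernel) (by decide +kernel)
    rfl hgens1 narrow1 (by decide +kernel) Fi23H10H.gens1_ok Fi23H10H.pts1_ok

theorem card2 : Nat.card (X.fixK [140, 488]) = 8 * Nat.card (X.fixK [140, 488, 1126]) :=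
  X.card_step [Fi23H10G.level0, Fi23H10G.level1] Fi23H10G.level2 [Fi23H10G.level3, Fi23H10G.level4, Fi23H10G.level5, Fi23H10G.level6, Fi23H10G.level7, Fi23H10G.level8, Fi23H10G.level9] Fi23H10H.level2 rfl (by decide +kernel) (by decide +kernel)
    rfl hgens2 narrow2 (by decide +kernel) Fi23H10H.gens2_ok Fi23H10H.pts2_ok

theorem card3 : Nat.card (X.fixK [140, 488, 1126]) = 6 * Nat.card (X.fixK [140, 488, 1126, 4652]) :=
  X.card_step [Fi23H10G.level0, Fi23H10G.level1, Fi23H10G.level2] Fi23H10G.level3 [Fi23H10G.level4, Fi23H10G.level5, Fi23H10G.level6, Fi23H10G.level7, Fi23H10G.level8, Fi23H10G.level9] Fi23H10H.level3 rfl (by decide +kernel) (by decide +kernel)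
    rfl hgens3 narrow3 (by decide +kernel) Fi23H10H.gens3_ok Fi23H10H.pts3_ok

theorem card4 : Nat.card (X.fixK [140, 488, 1126, 4652]) = 8 * Nat.card (X.fixK [140, 488, 1126, 4652, 3623]) :=
  X.card_step [Fi23H10G.level0, Fi23H10G.level1, Fi23H10G.level2, Fi23H10G.level3] Fi23H10G.level4 [Fi23H10G.level5, Fi23H10G.level6, Fi23H10G.level7, Fi23H10G.level8, Fi23H10G.level9] Fi23H10H.level4 rfl (by decide +kernel) (by decide +kernel)
    rfl hgens4 narrow4 (by decide +kernel) Fi23H10H.gens4_ok Fi23H10H.pts4_ok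

theorem card5 : Nat.card (X.fixK [140, 488, 1126, 4652, 3623]) = 9 * Nat.card (X.fixK [140, 488, 1126, 4652, 3623, 507]) :=
  X.card_step [Fi23H10G.level0, Fi23H10G.level1, Fi23H10G.level2, Fi23H10G.level3, Fi23H10G.level4] Fi23H10G.level5 [Fi23H10G.level6, Fi23H10G.level7, Fi23H10G.level8, Fi23H10G.level9] Fi23H10H.level5 rfl (by decide +kernel) (by decide +kernel)
    rfl hgens5 narrow5 (by decide +kernel) Fi23H10H.gens5_ok Fi23H10H.pts5_ok

theorem card6 : Nat.card (X.fixK [140, 488, 1126, 4652, 3623, 507]) = 2 * Nat.card (X.fixK [140, 488, 1126, 4652, 3623, 507, 3237]) :=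
  X.card_step [Fi23H10G.level0, Fi23H10G.level1, Fi23H10G.level2, Fi23H10G.level3, Fi23H10G.level4, Fi23H10G.level5] Fi23H10G.level6 [Fi23H10G.level7, Fi23H10G.level8, Fi23H10G.level9] Fi23H10H.level6 rfl (by decide +kernel) (by decide +kernel)
    rfl hgens6 narrow6 (by decide +kernel) Fi23H10H.gens6_ok Fi23H10H.pts6_ok

theorem card7 : Nat.card (X.fixK [140, 488, 1126, 4652, 3623, 507, 3237]) = 9 * Nat.card (X.fixK [140, 488, 1126, 4652, 3623, 507, 3237, 783]) :=
  X.card_step [Fi23H10G.level0, Fi23H10G.level1, Fi23H10G.level2, Fi23H10G.level3, Fi23H10G.level4, Fi23H10G.level5, Fi23H10G.level6] Fi23H10G.level7 [Fi23H10G.level8, Fi23H10G.level9] Fi23H10H.level7 rfl (by decide +kernel) (by decide +kernel)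
    rfl hgens7 narrow7 (by decide +kernel) Fi23H10H.gens7_ok Fi23H10H.pts7_ok

theorem card8 : Nat.card (X.fixK [140, 488, 1126, 4652, 3623, 507, 3237, 783]) = 2 * Nat.card (X.fixK [140, 488, 1126, 4652, 3623, 507, 3237, 783, 400]) :=
  X.card_step [Fi23H10G.level0, Fi23H10G.level1, Fi23H10G.level2, Fi23H10G.level3, Fi23H10G.level4, Fi23H10G.level5, Fi23H10G.level6, Fi23H10G.level7] Fi23H10G.level8 [Fi23H10G.level9] Fi23H10H.level8 rfl (by decide +kernel) (by decide +kernel)
    rfl hgens8 narrow8 (by decide +kernel) Fi23H10H.gens8_ok Fi23H10H.pts8_ok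

theorem card9 : Nat.card (X.fixK [140, 488, 1126, 4652, 3623, 507, 3237, 783, 400]) = 3 * Nat.card (X.fixK [140, 488, 1126, 4652, 3623, 507, 3237, 783, 400, 0]) :=
  X.card_step [Fi23H10G.level0, Fi23H10G.level1, Fi23H10G.level2, Fi23H10G.level3, Fi23H10G.level4, Fi23H10G.level5, Fi23H10G.level6, Fi23H10G.level7, Fi23H10G.level8] Fi23H10G.level9 [] Fi23H10H.level9 rfl (by decide +kernel) (by decide +kernel)
    rfl hgens9 narrow9 (by decide +kernel) Fi23H10H.gens9_ok Fi23H10H.pts9_ok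

theorem fixK_all : Nat.card (X.fixK [140, 488, 1126, 4652, 3623, 507, 3237, 783, 400, 0]) = 1 := by
  rw [Subgroup.card_eq_one, Subgroup.eq_bot_iff_forall]
  intro g hg
  obtain ⟨w, hw, e⟩ := X.exists_word g⁻¹
  suffices h : g⁻¹ = 1 from inv_eq_one.1 h
  rw [e]
  refine Data.eq_one_of_fixes_bases Fi23Index31671.valid Fi23Index31671.spells X.φ X.hfwd
    Fi23Order.card_bound.1 Fi23Order.card_bound.2 (by norm_num) gLevels gLevels_ok gLevels_prod
    (w.map Fi23Index31671.dec) ?_ ?_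
  · rw [code_dec w hw]
    exact List.all_eq_true.2 fun x hx => Nat.ble_eq.mpr (hw x hx)
  · rw [code_dec w hw]
    refine List.all_eq_true.2 fun b hb => ?_
    have hmem : b ∈ ([140, 488, 1126, 4652, 3623, 507, 3237, 783, 400, 0] : List Nat) := hb
    have hlt : b < 31671 := by
      have h : ([140, 488, 1126, 4652, 3623, 507, 3237, 783, 400, 0] : List Nat).all (fun b => Nat.blt b 31671) = true := by decide
      exact Nat.ble_eq.mp (List.all_eq_true.1 h b hmem)
    have h1 := X.fwd_ew hw ⟨b, hlt⟩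
    rw [← e, map_inv, inv_inv, hg.2 ⟨b, hlt⟩ hmem] at h1
    rw [← h1]
    exact Nat.beq_refl b

theorem card_K : Nat.card X.K = 2 ^ 11 * 3 ^ 13 := by
  rw [← X.fixK_nil, X.card0, X.card1, X.card2, X.card3, X.card4, X.card5, X.card6, X.card7,
    X.card8, X.card9, X.fixK_all]
  norm_num

theorem card_kernel : Nat.card (X.fixK [140, 488, 1126, 4652, 3623, 507, 3237, 783, 400]) = 3 := by
  rw [X.card9, X.fixK_all]

end Cfsg.Agent.CosetCert.Fi23H10.Ctx
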