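import Cfsg.Agent.CosetCert.Fi23H10.Defs

/-! Generated: checks. -/

set_option Elab.async false
set_option maxRecDepth 100000

namespace Cfsg.Agent.CosetCert.Fi23H10

theorem linesAt0 : allFrom lineOK 0 11 = true := by decide +kernel

theorem linesAt11 : allFrom lineOK 11 11 = true := by decide +kernel

theorem linesAt22 : allFrom lineOK 22 11 = true := by decide +kernel

theorem linesAt33 : allFrom lineOK 33 11 = true := by decide +kernel

theorem linesAt44 : allFrom lineOK 44 11 = true := by decide +kernel

theorem linesAt55 : allFrom lineOK 55 11 = true := by decide +kernel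

theorem linesAt66 : allFrom lineOK 66 11 = true := by decide +kernel

theorem linesAt77 : allFrom lineOK 77 11 = true := by decide +kernel

theorem lines_ok : allFrom lineOK 0 88 = true := by
  have h0 : ∀ c, c < 0 → lineOK c = true := forall_lt_zero
  have h1 := forall_lt_step (b := 11) h0 linesAt0 rfl
  have h2 := forall_lt_step (b := 22) h1 linesAt11 rfl
  have h3 := forall_lt_step (b := 33) h2 linesAt22 rfl
  have h4 := forall_lt_step (b := 44) h3 linesAt33 rfl
  have h5 := forall_lt_step (b := 55) h4 linesAt44 rfl
  have h6 := forall_lt_step (b := 66) h5 linesAt55 rfl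
  have h7 := forall_lt_step (b := 77) h6 linesAt66 rfl
  have h8 := forall_lt_step (b := 88) h7 linesAt77 rfl
  exact (allFrom_iff _ _ _).2 fun c _ hc => h8 c (by omega)

end Cfsg.Agent.CosetCert.Fi23H10
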