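import Cfsg.Agent.CosetCert.Fi23H10.Defs

/-! Generated: checks. -/

set_option Elab.async false
set_option maxRecDepth 100000

namespace Cfsg.Agent.CosetCert.Fi23H10

theorem hWord0_ok : inH (word hWords 0) = true := by decide +kernel

theorem hWord1_ok : inH (word hWords 1) = true := by decide +kernel

theorem hWord2_ok : inH (word hWords 2) = true := by decide +kernel

theorem hWord3_ok : inH (word hWords 3) = true := by decide +kernel

theorem hWord4_ok : inH (word hWords 4) = true := by decide +kernel

theorem hWord5_ok : inH (word hWords 5) = true := by decide +kernel

theorem hWord6_ok : inH (word hWords 6) = true := by decide +kernel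

theorem hWord7_ok : inH (word hWords 7) = true := by decide +kernel

theorem hWord8_ok : inH (word hWords 8) = true := by decide +kernel

end Cfsg.Agent.CosetCert.Fi23H10
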