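import Cfsg.Agent.CosetCert.Fi23H10.Defs

/-! Generated: checks. -/

set_option Elab.async false
set_option maxRecDepth 100000

namespace Cfsg.Agent.CosetCert.Fi23H10

theorem hWord9_ok : inH (word hWords 9) = true := by decide +kernel

theorem hWord10_ok : inH (word hWords 10) = true := by decide +kernel

theorem hWord11_ok : inH (word hWords 11) = true := by decide +kernel

theorem hWord12_ok : inH (word hWords 12) = true := by decide +kernel

theorem hWord13_ok : inH (word hWords 13) = true := by decide +kernel

theorem hWord14_ok : inH (word hWords 14) = true := by decide +kernel

theorem hWord15_ok : inH (word hWords 15) = true := by decide +kernel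

theorem hWord16_ok : inH (word hWords 16) = true := by decide +kernel

theorem hWord17_ok : inH (word hWords 17) = true := by decide +kernel

end Cfsg.Agent.CosetCert.Fi23H10
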