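import Cfsg.Agent.CosetCert.Fi23H10.Defs

/-! Generated: checks. -/

set_option Elab.async false
set_option maxRecDepth 100000

namespace Cfsg.Agent.CosetCert.Fi23H10

theorem hWord18_ok : inH (word hWords 18) = true := by decide +kernel

theorem hWord19_ok : inH (word hWords 19) = true := by decide +kernel

theorem hWord20_ok : inH (word hWords 20) = true := by decide +kernel

theorem hWord21_ok : inH (word hWords 21) = true := by decide +kernel

theorem hWord22_ok : inH (word hWords 22) = true := by decide +kernel

theorem hWord23_ok : inH (word hWords 23) = true := by decide +kernel

theorem hWord24_ok : inH (word hWords 24) = true := by decide +kernel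

end Cfsg.Agent.CosetCert.Fi23H10
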