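import Cfsg.Agent.CosetCert.Fi23H10.Defs
import Cfsg.Agent.CosetCert.Fi23H10.WordCheck0
import Cfsg.Agent.CosetCert.Fi23H10.WordCheck1
import Cfsg.Agent.CosetCert.Fi23H10.WordCheck2
import Cfsg.Agent.CosetCert.Fi23H10.LineCheck
import Cfsg.Agent.CosetCert.Fi23H10G.Level0
import Cfsg.Agent.CosetCert.Fi23H10G.Level1
import Cfsg.Agent.CosetCert.Fi23H10G.Level2
import Cfsg.Agent.CosetCert.Fi23H10G.Level3
import Cfsg.Agent.CosetCert.Fi23H10G.Level4
import Cfsg.Agent.CosetCert.Fi23H10G.Level5
import Cfsg.Agent.CosetCert.Fi23H10G.Level6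
import Cfsg.Agent.CosetCert.Fi23H10G.Level7
import Cfsg.Agent.CosetCert.Fi23H10G.Level8
import Cfsg.Agent.CosetCert.Fi23H10G.Level9
import Cfsg.Agent.CosetCert.Fi23H10H.Level0
import Cfsg.Agent.CosetCert.Fi23H10H.Level1
import Cfsg.Agent.CosetCert.Fi23H10H.Level2
import Cfsg.Agent.CosetCert.Fi23H10H.Level3
import Cfsg.Agent.CosetCert.Fi23H10H.Level4
import Cfsg.Agent.CosetCert.Fi23H10H.Level5
import Cfsg.Agent.CosetCert.Fi23H10H.Level6
import Cfsg.Agent.CosetCert.Fi23H10H.Level7
import Cfsg.Agent.CosetCert.Fi23H10H.Level8
import Cfsg.Agent.CosetCert.Fi23H10H.Level9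

/-! The checks. -/

set_option Elab.async false
set_option maxRecDepth 100000

namespace Cfsg.Agent.CosetCert.Fi23H10

/-- The levels of the whole group. -/
noncomputable def gLevels : List Data.Level := [Fi23H10G.level0, Fi23H10G.level1, Fi23H10G.level2, Fi23H10G.level3, Fi23H10G.level4, Fi23H10G.level5, Fi23H10G.level6, Fi23H10G.level7, Fi23H10G.level8, Fi23H10G.level9]

theorem gLevels_ok : D.LevelsOK [] gLevels :=
  ⟨⟨by decide +kernel, Fi23H10G.gens0_ok, Fi23H10G.pts0_ok⟩, ⟨by decide +kernel, Fi23H10G.gens1_ok, Fi23H10G.pts1_ok⟩, ⟨by decide +kernel, Fi23H10G.gens2_ok, Fi23H10G.pts2_ok⟩, ⟨by decide +kernel, Fi23H10G.gens3_ok, Fi23H10G.pts3_ok⟩, ⟨by decide +kernel, Fi23H10G.gens4_ok, Fi23H10G.pts4_ok⟩, ⟨by decide +kernel, Fi23H10G.gens5_ok, Fi23H10G.pts5_ok⟩, ⟨by decide +kernel, Fi23H10G.gens6_ok, Fi23H10G.pts6_ok⟩, ⟨by decide +kernel, Fi23H10G.gens7_ok, Fi23H10G.pts7_ok⟩, ⟨by decide +kernel, Fi23H10G.gens8_ok, Fi23H10G.pts8_ok⟩, ⟨by decide +kernel, Fi23H10G.gens9_ok, Fi23H10G.pts9_ok⟩, trivial⟩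

theorem gLevels_prod : (gLevels.map Data.Level.size).prod = 4089470473293004800 := by decide +kernel

theorem narrow0At0 : allFrom (narrowOK Fi23H10G.level0 Fi23H10H.level0) 0 2000 = true := by decide +kernel

theorem narrow0At2000 : allFrom (narrowOK Fi23H10G.level0 Fi23H10H.level0) 2000 2000 = true := by decide +kernel

theorem narrow0At4000 : allFrom (narrowOK Fi23H10G.level0 Fi23H10H.level0) 4000 2000 = true := by decide +kernel

theorem narrow0At6000 : allFrom (narrowOK Fi23H10G.level0 Fi23H10H.level0) 6000 2000 = true := by decide +kernel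

theorem narrow0At8000 : allFrom (narrowOK Fi23H10G.level0 Fi23H10H.level0) 8000 2000 = true := by decide +kernel

theorem narrow0At10000 : allFrom (narrowOK Fi23H10G.level0 Fi23H10H.level0) 10000 2000 = true := by decide +kernel

theorem narrow0At12000 : allFrom (narrowOK Fi23H10G.level0 Fi23H10H.level0) 12000 2000 = true := by decide +kernel

theorem narrow0At14000 : allFrom (narrowOK Fi23H10G.level0 Fi23H10H.level0) 14000 2000 = true := by decide +kernel

theorem narrow0At16000 : allFrom (narrowOK Fi23H10G.level0 Fi23H10H.level0) 16000 2000 = true := by decide +kernel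

theorem narrow0At18000 : allFrom (narrowOK Fi23H10G.level0 Fi23H10H.level0) 18000 2000 = true := by decide +kernel

theorem narrow0At20000 : allFrom (narrowOK Fi23H10G.level0 Fi23H10H.level0) 20000 2000 = true := by decide +kernel

theorem narrow0At22000 : allFrom (narrowOK Fi23H10G.level0 Fi23H10H.level0) 22000 2000 = true := by decide +kernel

theorem narrow0At24000 : allFrom (narrowOK Fi23H10G.level0 Fi23H10H.level0) 24000 2000 = true := by decide +kernel

theorem narrow0At26000 : allFrom (narrowOK Fi23H10G.level0 Fi23H10H.level0) 26000 2000 = true := by decide +kernel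

theorem narrow0At28000 : allFrom (narrowOK Fi23H10G.level0 Fi23H10H.level0) 28000 2000 = true := by decide +kernel

theorem narrow0At30000 : allFrom (narrowOK Fi23H10G.level0 Fi23H10H.level0) 30000 1671 = true := by decide +kernel

theorem narrow0 : allFrom (narrowOK Fi23H10G.level0 Fi23H10H.level0) 0 31671 = true := by
  have h0 : ∀ c, c < 0 → narrowOK Fi23H10G.level0 Fi23H10H.level0 c = true := forall_lt_zero
  have h1 := forall_lt_step (b := 2000) h0 narrow0At0 rfl
  have h2 := forall_lt_step (b := 4000) h1 narrow0At2000 rfl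
  have h3 := forall_lt_step (b := 6000) h2 narrow0At4000 rfl
  have h4 := forall_lt_step (b := 8000) h3 narrow0At6000 rfl
  have h5 := forall_lt_step (b := 10000) h4 narrow0At8000 rfl
  have h6 := forall_lt_step (b := 12000) h5 narrow0At10000 rfl
  have h7 := forall_lt_step (b := 14000) h6 narrow0At12000 rfl
  have h8 := forall_lt_step (b := 16000) h7 narrow0At14000 rfl
  have h9 := forall_lt_step (b := 18000) h8 narrow0At16000 rfl
  have h10 := forall_lt_step (b := 20000) h9 narrow0At18000 rfl
  have h11 := forall_lt_step (b := 22000) h10 narrow0At20000 rfl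
  have h12 := forall_lt_step (b := 24000) h11 narrow0At22000 rfl
  have h13 := forall_lt_step (b := 26000) h12 narrow0At24000 rfl
  have h14 := forall_lt_step (b := 28000) h13 narrow0At26000 rfl
  have h15 := forall_lt_step (b := 30000) h14 narrow0At28000 rfl
  have h16 := forall_lt_step (b := 31671) h15 narrow0At30000 rfl
  exact (allFrom_iff _ _ _).2 fun c _ hc => h16 c (by omega)

theorem hgens0 : Fi23H10H.level0.gens.all (fun w => hWords.contains w) = true := by decide +kernel

theorem narrow1 : allFrom (narrowOK Fi23H10G.level1 Fi23H10H.level1) 0 3510 = true := by decide +kernel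

theorem hgens1 : Fi23H10H.level1.gens.all (fun w => hWords.contains w) = true := by decide +kernel

theorem narrow2 : allFrom (narrowOK Fi23H10G.level2 Fi23H10H.level2) 0 2816 = true := by decide +kernel

theorem hgens2 : Fi23H10H.level2.gens.all (fun w => hWords.contains w) = true := by decide +kernel

theorem narrow3 : allFrom (narrowOK Fi23H10G.level3 Fi23H10H.level3) 0 1680 = true := by decide +kernel

theorem hgens3 : Fi23H10H.level3.gens.all (fun w => hWords.contains w) = true := by decide +kernel

theorem narrow4 : allFrom (narrowOK Fi23H10G.level4 Fi23H10H.level4) 0 8 = true := by decide +kernel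

theorem hgens4 : Fi23H10H.level4.gens.all (fun w => hWords.contains w) = true := by decide +kernel

theorem narrow5 : allFrom (narrowOK Fi23H10G.level5 Fi23H10H.level5) 0 9 = true := by decide +kernel

theorem hgens5 : Fi23H10H.level5.gens.all (fun w => hWords.contains w) = true := by decide +kernel

theorem narrow6 : allFrom (narrowOK Fi23H10G.level6 Fi23H10H.level6) 0 2 = true := by decide +kernel

theorem hgens6 : Fi23H10H.level6.gens.all (fun w => hWords.contains w) = true := by decide +kernel

theorem narrow7 : allFrom (narrowOK Fi23H10G.level7 Fi23H10H.level7) 0 9 = true := by decide +kernel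

theorem hgens7 : Fi23H10H.level7.gens.all (fun w => hWords.contains w) = true := by decide +kernel

theorem narrow8 : allFrom (narrowOK Fi23H10G.level8 Fi23H10H.level8) 0 2 = true := by decide +kernel

theorem hgens8 : Fi23H10H.level8.gens.all (fun w => hWords.contains w) = true := by decide +kernel

theorem narrow9 : allFrom (narrowOK Fi23H10G.level9 Fi23H10H.level9) 0 3 = true := by decide +kernel

theorem hgens9 : Fi23H10H.level9.gens.all (fun w => hWords.contains w) = true := by decide +kernel

theorem f_ok : allFrom fOK 0 324 = true := by decide +kernel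

theorem hWords_ok : hWords.all inH = true := by
  have hlen : hWords.length = 25 := by decide +kernel
  rw [List.all_eq_true]
  intro w hw
  obtain ⟨i, hi, rfl⟩ := List.getElem_of_mem hw
  have e : hWords[i] = word hWords i := by
    rw [word_eq, List.getD_eq_getElem _ _ hi]
  rw [e]
  have hi' : i < 25 := hlen ▸ hi
  interval_cases i
  · exact hWord0_ok
  · exact hWord1_ok
  · exact hWord2_ok
  · exact hWord3_ok
  · exact hWord4_ok
  · exact hWord5_ok
  · exact hWord6_ok
  · exact hWord7_ok
  · exact hWord8_ok
  · exact hWord9_ok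
  · exact hWord10_ok
  · exact hWord11_ok
  · exact hWord12_ok
  · exact hWord13_ok
  · exact hWord14_ok
  · exact hWord15_ok
  · exact hWord16_ok
  · exact hWord17_ok
  · exact hWord18_ok
  · exact hWord19_ok
  · exact hWord20_ok
  · exact hWord21_ok
  · exact hWord22_ok
  · exact hWord23_ok
  · exact hWord24_ok


theorem first_ok : inH (ptCode (rootPaths.getD 0 [])) = true := by decide +kernel

theorem edges_ok : edgesOK 1 = true ∧ edgesOK 2 = true := by decide +kernel

theorem root_in : inF (roots.getD 0 31671) = true := by decide +kernel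

theorem program_length : program.length = 88 := by decide +kernel

theorem last_ok : lastOK 0 targets.1 = true ∧ lastOK 1 targets.2 = true ∧
    lastPaths.all lastPathOK = true := by decide +kernel

theorem last_noncommute : (Nat.beq (D.fwd (lastCode 0 ++ lastCode 1) 0)
      (D.fwd (lastCode 1 ++ lastCode 0) 0) && Nat.beq (D.fwd (lastCode 0 ++ lastCode 1) 9810)
      (D.fwd (lastCode 1 ++ lastCode 0) 9810)) = false := by decide +kernel

/-- Some generator of the point stabiliser moves the point. -/
noncomputable def movedOK (c : Nat) : Bool :=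
  Nat.beq c 0 || ([0, 1, 2, 3, 4, 5, 6, 8, 9] : List Nat).any fun x => !(Nat.beq (D.T c x) c)

theorem movedAt0 : allFrom movedOK 0 8000 = true := by decide +kernel

theorem movedAt8000 : allFrom movedOK 8000 8000 = true := by decide +kernel

theorem movedAt16000 : allFrom movedOK 16000 8000 = true := by decide +kernel

theorem movedAt24000 : allFrom movedOK 24000 7671 = true := by decide +kernel

theorem moved_ok : allFrom movedOK 0 31671 = true := by
  have h0 : ∀ c, c < 0 → movedOK c = true := forall_lt_zero
  have h1 := forall_lt_step (b := 8000) h0 movedAt0 rfl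
  have h2 := forall_lt_step (b := 16000) h1 movedAt8000 rfl
  have h3 := forall_lt_step (b := 24000) h2 movedAt16000 rfl
  have h4 := forall_lt_step (b := 31671) h3 movedAt24000 rfl
  exact (allFrom_iff _ _ _).2 fun c _ hc => h4 c (by omega)

end Cfsg.Agent.CosetCert.Fi23H10
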