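import Cfsg.Agent.Fi23Centralizer.Main
import Cfsg.Agent.CosetCert.Lower
import Cfsg.Agent.CosetCert.Fi23H10.Words
import Cfsg.Agent.CosetCert.Fi23H10.FStore
import Cfsg.Agent.CosetCert.Fi23H10.FPosStore
import Cfsg.Agent.CosetCert.Fi23H10.TreeStore

/-!
The checks for the subgroup of Fi23 fixing a set of 324 transpositions.
-/

set_option maxRecDepth 100000

namespace Cfsg.Agent.CosetCert.Fi23H10

/-- The table of the enumeration. -/
noncomputable abbrev D : Data := Fi23Index31671.data

/-- The transpositions of the set. -/
noncomputable def fp (i : Nat) : Nat := get48 fStore i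

/-- Membership of the set. -/
noncomputable def inF (c : Nat) : Bool :=
  force (get48 fPosStore c) fun j => gate (Nat.blt j 324) (Nat.beq (fp j) c)

/-- The table of places is correct. -/
noncomputable def fOK (i : Nat) : Bool :=
  force (fp i) fun c => gate (Nat.blt c 31671) (Nat.beq (get48 fPosStore c) i)

/-- A word maps the set into itself. -/
noncomputable def inH (w : List Nat) : Bool :=
  gate (w.all fun x => Nat.blt x 10) (allFrom (fun i => inF (D.fwd w (fp i))) 0 324)

/-- The point of an entry of a level. -/
noncomputable def pt (L : Data.Level) (j : Nat) : Nat := Nat.div (L.pts j) 1099511627776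

/-- A point of the big level inside the set is a point of the small level. -/
noncomputable def narrowOK (G H : Data.Level) (j : Nat) : Bool :=
  force (pt G j) fun p => gate true
    ((inF G.base && !inF p) ||
      force (H.pos p) fun k => gate (Nat.blt k H.size) (Nat.beq (pt H k) p))

/-- The orbit number of a point. -/
noncomputable def rootIdx (c : Nat) : Nat := Nat.div (get48 treeStore c) 4294967296

/-- The depth of a point. -/
noncomputable def depth (c : Nat) : Nat := Nat.mod (Nat.div (get48 treeStore c) 16777216) 256

/-- A point is a root or comes from a point nearer to the root. -/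
noncomputable def treeOK (c : Nat) : Bool :=
  force (get48 treeStore c) fun q => force (Nat.mod q 1048576) fun p =>
  force (Nat.mod (Nat.div q 1048576) 16) fun g =>
  gate (Nat.blt (rootIdx c) roots.length)
    (Bool.rec (motive := fun _ => Bool)
      (gate (Nat.blt p 31671) (gate (Nat.blt g treeCount) (gate (Nat.blt (depth p) (depth c))
        (gate (Nat.beq (rootIdx p) (rootIdx c)) (Nat.beq (D.fwd (word hWords g) p) c)))))
      (Nat.beq (roots.getD (rootIdx c) 31671) c)
      (Nat.beq (depth c) 0))

/-- The code of the word of the transposition at the end of a path. -/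
def ptLetters (u : List Nat) : List (Cfsg.Spor.Fi23.Gen × Bool) :=
  FreeGroup.invRev (u.map Fi23Index31671.dec) ++ Fi23Centralizer.zList ++
    u.map Fi23Index31671.dec

/-- The code of such a word. -/
noncomputable def ptCode (u : List Nat) : List Nat :=
  (ptLetters u).map (Data.code D.iv Fi23Index31671.enc)

/-- The orbits known after the steps. -/
noncomputable def spread (w : List Nat) : List (Nat × Nat) → List Nat → List Nat
  | [], known => known
  | (u, v) :: t, known =>
    spread w t (if known.contains (rootIdx u) && Nat.blt u 31671 && Nat.blt v 31671 &&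
      Nat.beq (D.fwd w u) v then rootIdx v :: known else known)

/-- The transposition of the orbit connects all orbits. -/
noncomputable def edgesOK (j : Nat) : Bool :=
  Nat.beq (D.fwd (rootPaths.getD j []) 0) (roots.getD j 31671) &&
    ((rootPaths.getD j []).all fun x => Nat.blt x 10) &&
    (List.range roots.length).all fun r =>
      (spread (ptCode (rootPaths.getD j [])) (edges.getD j []) [0, j]).contains r

/-- A line of the program. -/
def line (k : Nat) : Nat × Nat × Nat × Nat × Nat := program.getD k (3, 0, 0, 0, 0)

/-- The permutation of a line, nine bits for each place. -/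
noncomputable def img (k i : Nat) : Nat :=
  Nat.land (Nat.shiftRight (line k).2.2.2.2 (Nat.mul 9 i)) 511

/-- A line has a stated depth and permutation. -/
noncomputable def lineOK (k : Nat) : Bool :=
  match line k with
  | (0, a, _, l, _) => Nat.beq l 0 && Nat.blt a hWords.length &&
      allFrom (fun i => force (img k i) fun m =>
        gate (Nat.blt m 324) (Nat.beq (D.fwd (word hWords a) (fp i)) (fp m))) 0 324
  | (1, a, b, l, _) => Nat.blt a k && Nat.blt b k && Nat.beq (line a).2.2.2.1 l &&
      Nat.beq (line b).2.2.2.1 l &&
      allFrom (fun i => force (img k i) fun m =>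
        gate (Nat.blt m 324) (Nat.beq (img b (img a i)) m)) 0 324
  | (2, a, b, l, _) => Nat.blt a k && Nat.blt b k && Nat.beq (Nat.succ (line a).2.2.2.1) l &&
      Nat.beq (Nat.succ (line b).2.2.2.1) l &&
      allFrom (fun i => gate (Nat.blt (img k i) 324)
        (Nat.beq (img k (img a (img b i))) (img b (img a i)))) 0 324
  | _ => false

/-- One of the last two elements. -/
noncomputable def lastCode (s : Nat) : List Nat :=
  ptCode (lastPaths.getD (2 * s) []) ++ ptCode (lastPaths.getD (2 * s + 1) [])

/-- A last element has the permutation of its line, which has depth eight. -/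
noncomputable def lastOK (s k : Nat) : Bool :=
  Nat.beq (line k).2.2.2.1 8 && Nat.blt k program.length &&
    allFrom (fun i => Nat.beq (D.fwd (lastCode s) (fp i)) (fp (img k i))) 0 324

/-- A path ends at a point of the set. -/
noncomputable def lastPathOK (u : List Nat) : Bool :=
  (u.all fun x => Nat.blt x 10) && inF (D.fwd u 0)

end Cfsg.Agent.CosetCert.Fi23H10
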