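import Cfsg.Agent.CosetCert.Fi23H10.Card
import Cfsg.Agent.S0144

/-!
The subgroup is solvable and its ninth derived subgroup is not trivial.
-/

set_option maxRecDepth 100000

namespace Cfsg.Agent.CosetCert.Fi23H10.Ctx

open Cfsg.Agent.CosetCert Cfsg.Spor
open scoped commutatorElement

variable (X : Ctx)

theorem solvable : Group.IsSolvable X.K :=
  haveI : Finite X.K := Nat.finite_of_card_ne_zero (by rw [X.card_K]; norm_num)
  Cfsg.Agent.S0144.result 2 3 11 13 Nat.prime_two Nat.prime_three X.card_K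

/-- An element of the subgroup has the stated permutation of the set. -/
def Rep (g : X.K) (k : Nat) : Prop :=
  ∀ i (hi : i < 324) (_ : img k i < 324),
    (((X.φ (g : Fi23))⁻¹ ⟨fp i, (fp_mem hi).1⟩ : Fin 31671) : Nat) = fp (img k i)

theorem rep_step {g : X.K} {k : Nat} (h : X.Rep g k) {i : Nat} (hi : i < 324)
    (hm : img k i < 324) :
    (X.φ (g : Fi23))⁻¹ ⟨fp i, (fp_mem hi).1⟩ = ⟨fp (img k i), (fp_mem hm).1⟩ :=
  Fin.ext (h i hi hm)

theorem fp_inj {i j : Nat} (hi : i < 324) (hj : j < 324) (h : fp i = fp j) : i = j := by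
  rw [← (fp_mem hi).2.2, ← (fp_mem hj).2.2, h]

theorem lines (k : Nat) (hk : k < 88) :
    (∀ i, i < 324 → img k i < 324) ∧
      ∃ g ∈ derivedSeries X.K (line k).2.2.2.1, X.Rep g k := by
  induction k using Nat.strong_induction_on with
  | _ k ih =>
  have h := (allFrom_iff _ _ _).1 lines_ok k (Nat.zero_le _) (by omega)
  rcases hline : line k with ⟨o, a, b, l, v⟩
  simp only [lineOK, hline] at h
  match o, h with
  | 0, h =>
    simp only [Bool.and_eq_true] at h
    obtain ⟨⟨hl, ha⟩, hall⟩ := h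
    have hl := Nat.eq_of_beq_eq_true hl
    have hall' : ∀ i, i < 324 → img k i < 324 ∧
        D.fwd (word hWords a) (fp i) = fp (img k i) := fun i hi => by
      have h2 := (allFrom_iff _ _ _).1 hall i (Nat.zero_le _) (by omega)
      simp only [force_eq, gate_eq, Bool.and_eq_true] at h2
      exact ⟨Nat.ble_eq.mp h2.1, Nat.eq_of_beq_eq_true h2.2⟩
    obtain ⟨hw, hwK⟩ := X.mem_K_of_hWords (show word hWords a ∈ hWords by
      rw [word_eq, List.getD_eq_getElem _ _ (Nat.ble_eq.mp ha)]; exact List.getElem_mem _)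
    refine ⟨fun i hi => (hall' i hi).1, ⟨_, hwK⟩, ?_, fun i hi _ => ?_⟩
    · show _ ∈ derivedSeries X.K l
      rw [hl, derivedSeries_zero]
      exact Subgroup.mem_top _
    · rw [X.fwd_ew hw]
      exact (hall' i hi).2
  | 1, h =>
    simp only [Bool.and_eq_true] at h
    obtain ⟨⟨⟨⟨ha, hb⟩, hla⟩, hlb⟩, hall⟩ := h
    have ha := Nat.ble_eq.mp ha
    have hb := Nat.ble_eq.mp hb
    obtain ⟨ra, g, hg, hga⟩ := ih a ha (by omega)
    obtain ⟨rb, g', hg', hgb⟩ := ih b hb (by omega)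
    rw [Nat.eq_of_beq_eq_true hla] at hg
    rw [Nat.eq_of_beq_eq_true hlb] at hg'
    have hall' : ∀ i, i < 324 → img k i < 324 ∧ img b (img a i) = img k i := fun i hi => by
      have h2 := (allFrom_iff _ _ _).1 hall i (Nat.zero_le _) (by omega)
      simp only [force_eq, gate_eq, Bool.and_eq_true] at h2
      exact ⟨Nat.ble_eq.mp h2.1, Nat.eq_of_beq_eq_true h2.2⟩
    refine ⟨fun i hi => (hall' i hi).1, g * g', mul_mem hg hg', fun i hi _ => ?_⟩
    rw [Subgroup.coe_mul, map_mul, mul_inv_rev, Equiv.Perm.mul_apply,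
      X.rep_step hga hi (ra i hi), X.rep_step hgb (ra i hi) (rb _ (ra i hi))]
    exact congrArg fp (hall' i hi).2
  | 2, h =>
    simp only [Bool.and_eq_true] at h
    obtain ⟨⟨⟨⟨ha, hb⟩, hla⟩, hlb⟩, hall⟩ := h
    have ha := Nat.ble_eq.mp ha
    have hb := Nat.ble_eq.mp hb
    obtain ⟨ra, g, hg, hga⟩ := ih a ha (by omega)
    obtain ⟨rb, g', hg', hgb⟩ := ih b hb (by omega)
    have hla := Nat.eq_of_beq_eq_true hla
    have hlb := Nat.eq_of_beq_eq_true hlb
    have hall' : ∀ i, i < 324 → img k i < 324 ∧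
        img k (img a (img b i)) = img b (img a i) := fun i hi => by
      have h2 := (allFrom_iff _ _ _).1 hall i (Nat.zero_le _) (by omega)
      simp only [gate_eq, Bool.and_eq_true] at h2
      exact ⟨Nat.ble_eq.mp h2.1, Nat.eq_of_beq_eq_true h2.2⟩
    refine ⟨fun i hi => (hall' i hi).1, g⁻¹ * g'⁻¹ * g * g', ?_, fun j hj _ => ?_⟩
    · show _ ∈ derivedSeries X.K l
      rw [← hla, derivedSeries_succ]
      have h3 := Subgroup.commutator_mem_commutator (inv_mem hg) (inv_mem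
        (show g' ∈ derivedSeries X.K (line a).2.2.2.1 by
          rwa [show (line a).2.2.2.1 = (line b).2.2.2.1 from
            Nat.succ.inj (hla.trans hlb.symm)]))
      rw [commutatorElement_def, inv_inv, inv_inv] at h3
      exact h3
    · -- `j` is the image of some place under `b` and then `a`
      obtain ⟨i, hi, e⟩ := exists_fp (show X.φ (((g' * g : X.K)) : Fi23) ⟨fp j, (fp_mem hj).1⟩ ∈ S
        from X.maps_S (g' * g).2 (fp_mem hj).2.1)
      have e' : X.φ (((g' * g : X.K)) : Fi23) ⟨fp j, (fp_mem hj).1⟩ = ⟨fp i, (fp_mem hi).1⟩ :=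
        Fin.ext e.symm
      have e2 : (X.φ (((g' * g : X.K)) : Fi23))⁻¹ ⟨fp i, (fp_mem hi).1⟩ = ⟨fp j, (fp_mem hj).1⟩ := by
        rw [Equiv.Perm.inv_eq_iff_eq, e']
      have e3 : (X.φ (((g' * g : X.K)) : Fi23))⁻¹ ⟨fp i, (fp_mem hi).1⟩ =
          ⟨fp (img a (img b i)), (fp_mem (ra _ (rb i hi))).1⟩ := by
        rw [Subgroup.coe_mul, map_mul, mul_inv_rev, Equiv.Perm.mul_apply,
          X.rep_step hgb hi (rb i hi), X.rep_step hga (rb i hi) (ra _ (rb i hi))]
      have hij : j = img a (img b i) :=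
        fp_inj hj (ra _ (rb i hi)) (congrArg Fin.val (e2.symm.trans e3))
      subst hij
      have e4 : (⟨fp (img a (img b i)), (fp_mem hj).1⟩ : Fin 31671) =
          (X.φ (((g' * g : X.K)) : Fi23))⁻¹ ⟨fp i, (fp_mem hi).1⟩ := e3.symm
      rw [e4, ← Equiv.Perm.mul_apply, ← mul_inv_rev, ← map_mul, ← Subgroup.coe_mul,
        show g' * g * (g⁻¹ * g'⁻¹ * g * g') = g * g' by group]
      rw [Subgroup.coe_mul, map_mul, mul_inv_rev, Equiv.Perm.mul_apply,
        X.rep_step hga hi (ra i hi), X.rep_step hgb (ra i hi) (rb _ (ra i hi))]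
      exact congrArg fp (hall' i hi).2.symm

/-- The kernel of the action on the set is inside a group of order three. -/
theorem kernel_comm {k k' : X.K} (hk : ∀ c ∈ S, X.φ (k : Fi23) c = c)
    (hk' : ∀ c ∈ S, X.φ (k' : Fi23) c = c) : (k : Fi23) * k' = k' * k := by
  set bs : List Nat := [140, 488, 1126, 4652, 3623, 507, 3237, 783, 400] with hbs
  have hb : bs.all inF = true := by decide +kernel
  have hA : ∀ g : X.K, (∀ c ∈ S, X.φ (g : Fi23) c = c) → (g : Fi23) ∈ X.fixK bs :=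
    fun g hg => ⟨g.2, fun c hc => hg c (List.all_eq_true.1 hb _ hc)⟩
  haveI : Fact (Nat.Prime 3) := ⟨Nat.prime_three⟩
  haveI := isCyclic_of_prime_card (α := X.fixK bs) X.card_kernel
  have h := (IsCyclic.commGroup (α := X.fixK bs)).mul_comm ⟨_, hA k hk⟩ ⟨_, hA k' hk'⟩
  exact congrArg Subtype.val h

theorem ninth_ne_bot : derivedSeries X.K 9 ≠ ⊥ := by
  classical
  have hlast : ∀ s : Nat, s = 0 ∨ s = 1 →
      ∃ (x : Fi23) (hx : x ∈ X.K) (g : X.K), g ∈ derivedSeries X.K 8 ∧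
        (∀ c : Fin 31671, (((X.φ x)⁻¹ c : Fin 31671) : Nat) = D.fwd (lastCode s) c) ∧
        (∃ c d : Fin 31671, c ∈ S ∧ d ∈ S ∧ x = X.tr c * X.tr d) ∧
        ∀ c ∈ S, (X.φ (g : Fi23))⁻¹ c = (X.φ x)⁻¹ c := by
    intro s hs
    obtain ⟨k, hk⟩ : ∃ k, lastOK s k = true := by
      rcases hs with rfl | rfl
      · exact ⟨_, last_ok.1⟩
      · exact ⟨_, last_ok.2.1⟩
    simp only [lastOK, Bool.and_eq_true] at hk
    obtain ⟨⟨hl, hk88⟩, hall⟩ := hk
    have hk88 : k < 88 := by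
      have := Nat.ble_eq.mp hk88
      rwa [program_length] at this
    obtain ⟨rk, g, hg, hgk⟩ := X.lines k hk88
    rw [Nat.eq_of_beq_eq_true hl] at hg
    have hlen : lastPaths.length = 4 := by decide +kernel
    have hpath : ∀ t, t < 4 → ∃ c : Fin 31671, c ∈ S ∧
        Fi23Transp.el (ptLetters (lastPaths.getD t [])) = X.tr c := by
      intro t ht
      have h2 := List.all_eq_true.1 last_ok.2.2 (lastPaths.getD t [])
        (by rw [List.getD_eq_getElem _ _ (hlen ▸ ht)]; exact List.getElem_mem _)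
      simp only [lastPathOK, Bool.and_eq_true] at h2
      have hu : ∀ x ∈ lastPaths.getD t [], x < 10 :=
        fun x hx => Nat.ble_eq.mp (List.all_eq_true.1 h2.1 x hx)
      exact ⟨⟨_, Fi23Index31671.valid.fwd_lt hu (show 0 < Fi23Index31671.data.n by decide)⟩,
        h2.2, X.el_ptLetters hu _ rfl⟩
    obtain ⟨c, hc, ec⟩ := hpath (2 * s) (by omega)
    obtain ⟨d, hd, ed⟩ := hpath (2 * s + 1) (by omega)
    have hfx : ∀ e : Fin 31671,
        (((X.φ (X.tr c * X.tr d))⁻¹ e : Fin 31671) : Nat) = D.fwd (lastCode s) e := by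
      intro e
      rw [← ec, ← ed, ← Fi23Transp.el_append, X.hfwd, List.map_append]
      rfl
    have hag : ∀ e ∈ S, (X.φ (g : Fi23))⁻¹ e = (X.φ (X.tr c * X.tr d))⁻¹ e := by
      intro e he
      obtain ⟨i, hi, hie⟩ := exists_fp he
      have e' : e = ⟨fp i, (fp_mem hi).1⟩ := Fin.ext hie.symm
      subst e'
      rw [X.rep_step hgk hi (rk i hi)]
      apply Fin.ext
      rw [hfx]
      exact (Nat.eq_of_beq_eq_true ((allFrom_iff _ _ _).1 hall i (Nat.zero_le _) (by omega))).symm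
    refine ⟨X.tr c * X.tr d, fun e he => ?_, g, hg, hfx, ⟨c, d, hc, hd, rfl⟩, hag⟩
    rw [← hag e he]
    exact g.2 e he
  obtain ⟨x, hx, g, hg, hfx, ⟨c, d, hc, hd, hxe⟩, hgx⟩ := hlast 0 (Or.inl rfl)
  obtain ⟨y, hy, g', hg', hfy, ⟨c', d', hc', hd', hye⟩, hgy⟩ := hlast 1 (Or.inr rfl)
  let k : X.K := g * ⟨x, hx⟩⁻¹
  let k' : X.K := g' * ⟨y, hy⟩⁻¹
  have hkfix : ∀ (g : X.K) (x : Fi23) (hx : x ∈ X.K),
      (∀ e ∈ S, (X.φ (g : Fi23))⁻¹ e = (X.φ x)⁻¹ e) →
      ∀ e ∈ S, X.φ ((g * ⟨x, hx⟩⁻¹ : X.K) : Fi23) e = e := by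
    intro g x hx h e he
    have h1 : (X.φ x)⁻¹ e ∈ S := hx e he
    rw [Subgroup.coe_mul, map_mul, Equiv.Perm.mul_apply, Subgroup.coe_inv, map_inv]
    rw [show ((⟨x, hx⟩ : X.K) : Fi23) = x from rfl, ← h e he]
    show X.φ (g : Fi23) ((X.φ (g : Fi23)).symm e) = e
    exact Equiv.apply_symm_apply _ _
  have hk := hkfix g x hx hgx
  have hk' := hkfix g' y hy hgy
  have hcomm : ∀ (m : X.K), (∀ e ∈ S, X.φ (m : Fi23) e = e) → ∀ e ∈ S,
      (m : Fi23) * X.tr e = X.tr e * m := by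
    intro m hm e he
    have h := X.tr_smul (m : Fi23) e
    rw [hm e he] at h
    calc (m : Fi23) * X.tr e = (m * X.tr e * (m : Fi23)⁻¹) * m := by group
      _ = X.tr e * m := by rw [← h]
  have hprod : ∀ (m : X.K), (∀ e ∈ S, X.φ (m : Fi23) e = e) →
      ∀ a b, a ∈ S → b ∈ S → (m : Fi23) * (X.tr a * X.tr b) = X.tr a * X.tr b * m := by
    intro m hm a b ha hb
    rw [← mul_assoc, hcomm m hm a ha, mul_assoc, hcomm m hm b hb, mul_assoc]
  have h1 : (k : Fi23) * x = x * k := by rw [hxe]; exact hprod k hk c d hc hd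
  have h2 : (k : Fi23) * y = y * k := by rw [hye]; exact hprod k hk c' d' hc' hd'
  have h3 : (k' : Fi23) * x = x * k' := by rw [hxe]; exact hprod k' hk' c d hc hd
  have h4 : (k' : Fi23) * y = y * k' := by rw [hye]; exact hprod k' hk' c' d' hc' hd'
  have h5 := X.kernel_comm hk hk'
  intro hbot
  have hmem : ⁅g, g'⁆ ∈ derivedSeries X.K 9 := by
    rw [derivedSeries_succ]
    exact Subgroup.commutator_mem_commutator hg hg'
  rw [hbot, Subgroup.mem_bot, commutatorElement_eq_one_iff_mul_comm] at hmem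
  have hgg : (g : Fi23) * g' = g' * g := congrArg Subtype.val hmem
  have eg : (g : Fi23) = k * x := by
    show (g : Fi23) = (g : Fi23) * x⁻¹ * x
    rw [inv_mul_cancel_right]
  have eg' : (g' : Fi23) = k' * y := by
    show (g' : Fi23) = (g' : Fi23) * y⁻¹ * y
    rw [inv_mul_cancel_right]
  rw [eg, eg'] at hgg
  have hxy : x * y = y * x := by
    have e1 : (k : Fi23) * x * (k' * y) = k * k' * (x * y) := by
      rw [mul_assoc, ← mul_assoc x, ← h3, mul_assoc, ← mul_assoc (k : Fi23)]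
    have e2 : (k' : Fi23) * y * (k * x) = k' * k * (y * x) := by
      rw [mul_assoc, ← mul_assoc y, ← h2, mul_assoc, ← mul_assoc (k' : Fi23)]
    rw [e1, e2, h5] at hgg
    exact mul_left_cancel hgg
  have hne := last_noncommute
  have hval : ∀ n (hn : n < 31671),
      Nat.beq (D.fwd (lastCode 0 ++ lastCode 1) n) (D.fwd (lastCode 1 ++ lastCode 0) n) = true := by
    intro n hn
    have e1 : (((X.φ (x * y))⁻¹ ⟨n, hn⟩ : Fin 31671) : Nat) =
        D.fwd (lastCode 0 ++ lastCode 1) n := by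
      rw [map_mul, mul_inv_rev, Equiv.Perm.mul_apply, Data.fwd_append, hfy, hfx]
    have e2 : (((X.φ (y * x))⁻¹ ⟨n, hn⟩ : Fin 31671) : Nat) =
        D.fwd (lastCode 1 ++ lastCode 0) n := by
      rw [map_mul, mul_inv_rev, Equiv.Perm.mul_apply, Data.fwd_append, hfx, hfy]
    rw [← e1, ← e2, hxy]
    exact Nat.beq_refl _
  rw [hval 0 (by norm_num), hval 9810 (by norm_num)] at hne
  exact Bool.noConfusion hne

theorem derived : derivedSeries X.K 10 ≠ derivedSeries X.K 9 := by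
  intro h
  have := X.solvable
  obtain ⟨n, hn⟩ := this.solvable
  have hst : ∀ m, derivedSeries X.K (9 + m) = derivedSeries X.K 9 := by
    intro m
    induction m with
    | zero => rfl
    | succ m ih =>
      rw [← Nat.add_assoc, derivedSeries_succ, ih, ← derivedSeries_succ]
      exact h
  apply X.ninth_ne_bot
  rw [← hst n, eq_bot_iff]
  calc derivedSeries X.K (9 + n) ≤ derivedSeries X.K n :=
        derivedSeries_antitone _ (Nat.le_add_left _ _)
    _ = ⊥ := hn

end Cfsg.Agent.CosetCert.Fi23H10.Ctx
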