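import Cfsg.Agent.CosetCert.Fi23H10.Defs

/-! Generated: checks. -/

set_option Elab.async false
set_option maxRecDepth 100000

namespace Cfsg.Agent.CosetCert.Fi23H10

theorem treeAt16000 : allFrom treeOK 16000 2000 = true := by decide +kernel

theorem treeAt18000 : allFrom treeOK 18000 2000 = true := by decide +kernel

theorem treeAt20000 : allFrom treeOK 20000 2000 = true := by decide +kernel

theorem treeAt22000 : allFrom treeOK 22000 2000 = true := by decide +kernel

theorem treeAt24000 : allFrom treeOK 24000 2000 = true := by decide +kernel

theorem treeAt26000 : allFrom treeOK 26000 2000 = true := by decide +kernel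

theorem treeAt28000 : allFrom treeOK 28000 2000 = true := by decide +kernel

theorem treeAt30000 : allFrom treeOK 30000 1671 = true := by decide +kernel

end Cfsg.Agent.CosetCert.Fi23H10
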