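import Cfsg.Agent.CosetCert.Fi23H10.TreeCheck0
import Cfsg.Agent.CosetCert.Fi23H10.TreeCheck1

/-! Generated: checks. -/

set_option Elab.async false
set_option maxRecDepth 100000

namespace Cfsg.Agent.CosetCert.Fi23H10

theorem tree_ok : ∀ c, c < 31671 → treeOK c = true := by
  have h0 : ∀ c, c < 0 → treeOK c = true := forall_lt_zero
  have h1 := forall_lt_step (b := 2000) h0 treeAt0 rfl
  have h2 := forall_lt_step (b := 4000) h1 treeAt2000 rfl
  have h3 := forall_lt_step (b := 6000) h2 treeAt4000 rfl
  have h4 := forall_lt_step (b := 8000) h3 treeAt6000 rfl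
  have h5 := forall_lt_step (b := 10000) h4 treeAt8000 rfl
  have h6 := forall_lt_step (b := 12000) h5 treeAt10000 rfl
  have h7 := forall_lt_step (b := 14000) h6 treeAt12000 rfl
  have h8 := forall_lt_step (b := 16000) h7 treeAt14000 rfl
  have h9 := forall_lt_step (b := 18000) h8 treeAt16000 rfl
  have h10 := forall_lt_step (b := 20000) h9 treeAt18000 rfl
  have h11 := forall_lt_step (b := 22000) h10 treeAt20000 rfl
  have h12 := forall_lt_step (b := 24000) h11 treeAt22000 rfl
  have h13 := forall_lt_step (b := 26000) h12 treeAt24000 rfl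
  have h14 := forall_lt_step (b := 28000) h13 treeAt26000 rfl
  have h15 := forall_lt_step (b := 30000) h14 treeAt28000 rfl
  have h16 := forall_lt_step (b := 31671) h15 treeAt30000 rfl
  exact h16

end Cfsg.Agent.CosetCert.Fi23H10
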