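import Cfsg.Agent.CosetCert.Fi23H10.Derived
import Cfsg.Agent.CosetCert.Fi23H10.TreeCheck

/-!
A maximal subgroup of the simple group Fi23 with derived length at least ten.
-/

set_option maxRecDepth 100000

namespace Cfsg.Agent.CosetCert.Fi23H10

open Cfsg.Agent.CosetCert Cfsg.Spor

namespace Ctx

variable (X : Ctx)

theorem first_mem : ∀ c : Fin 31671, c ∈ S → X.tr c ∈ X.K := by
  obtain ⟨hu, hpath⟩ : (∀ x ∈ rootPaths.getD 0 [], x < 10) ∧
      D.fwd (rootPaths.getD 0 []) 0 = 140 := by decide +kernel
  let c0 : Fin 31671 := ⟨140, by norm_num⟩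
  have h0 : X.tr c0 ∈ X.K := by
    obtain ⟨hw, hK⟩ := X.mem_K_of_inH first_ok
    rw [← X.el_ptLetters hu c0 hpath]
    have e : ew (ptCode (rootPaths.getD 0 [])) = Fi23Transp.el (ptLetters (rootPaths.getD 0 [])) := by
      apply X.inj
      apply inv_injective
      ext c
      rw [X.fwd_ew hw]
      exact (X.hfwd _ c).symm
    rwa [← e]
  intro c hc
  obtain ⟨j, hj, e⟩ : ∃ j, j < Fi23H10H.level0.size ∧ pt Fi23H10H.level0 j = c := by
    obtain ⟨i, hi, hie⟩ := exists_fp hc
    obtain ⟨w, hw, hwc⟩ : ∃ w : List Nat, (∀ x ∈ w, x < 10) ∧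
        D.fwd w Fi23H10G.level0.base = c := by
      obtain ⟨a, ha⟩ := X.transitive c0
      obtain ⟨b, hb⟩ := X.transitive c
      obtain ⟨w, hw, e⟩ := X.exists_word (b * a⁻¹)⁻¹
      refine ⟨w, hw, ?_⟩
      rw [show Fi23H10G.level0.base = (c0 : Nat) from rfl, ← X.fwd_ew hw, ← e, map_inv, inv_inv,
        map_mul, Equiv.Perm.mul_apply, map_inv]
      congr 1
      rw [← ha]
      show X.φ b ((X.φ a).symm (X.φ a zero)) = c
      rw [Equiv.symm_apply_apply, hb]
    obtain ⟨j, hj, hjc⟩ := exact_point X [] Fi23H10G.level0 _ rfl (by decide +kernel)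
      (by decide +kernel) hw (fun _ h => absurd h List.not_mem_nil)
    have hn := (allFrom_iff _ _ _).1 narrow0 j (Nat.zero_le _) (by
      show j < 0 + 31671
      have : j < 31671 := hj
      omega)
    simp only [narrowOK, force_eq, gate_eq, Bool.true_and, Bool.or_eq_true, Bool.and_eq_true,
      Bool.not_eq_true'] at hn
    rw [hjc, hwc] at hn
    rcases hn with ⟨-, h2⟩ | ⟨h1, h2⟩
    · exact absurd (show inF (c : Nat) = true from hc) (by rw [h2]; exact Bool.noConfusion)
    · exact ⟨_, Nat.ble_eq.mp h1, Nat.eq_of_beq_eq_true h2⟩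
  suffices h : ∀ j, j < Fi23H10H.level0.size → ∀ d : Fin 31671,
      pt Fi23H10H.level0 j = d → X.tr d ∈ X.K from h j hj c e
  intro j
  induction j using Nat.strong_induction_on with
  | _ j ih =>
  intro hj d hd
  have h1 := Fi23H10H.pts0_ok j hj
  simp only [Data.checkPoint, force_eq, gate_eq, Bool.and_eq_true] at h1
  obtain ⟨-, -, h1⟩ := h1
  rcases eq_or_ne j 0 with rfl | hj0
  · have e0 : d = c0 := Fin.ext (hd.symm.trans (Nat.eq_of_beq_eq_true h1))
    rw [e0]; exact h0
  · have hb0 : Nat.beq j 0 = false := by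
      cases hbb : Nat.beq j 0
      · rfl
      · exact absurd (Nat.eq_of_beq_eq_true hbb) hj0
    rw [hb0] at h1
    simp only [Bool.and_eq_true] at h1
    obtain ⟨hpar, hgl, hT⟩ := h1
    have hpar := Nat.ble_eq.mp hpar
    set par := Nat.mod (Nat.div (Fi23H10H.level0.pts j) 256) 4294967296 with hp
    have hplt : pt Fi23H10H.level0 par < 31671 := by
      have h2 := Fi23H10H.pts0_ok par (Nat.lt_trans hpar hj)
      simp only [Data.checkPoint, force_eq, gate_eq, Bool.and_eq_true] at h2
      exact Nat.ble_eq.mp h2.2.1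
    set w := word Fi23H10H.level0.gens (Nat.mod (Fi23H10H.level0.pts j) 256) with hwdef
    have hwmem : w ∈ hWords := by
      refine List.contains_iff_mem.1 (List.all_eq_true.1 hgens0 w ?_)
      rw [hwdef, word_eq, List.getD_eq_getElem _ _ (Nat.ble_eq.mp hgl)]
      exact List.getElem_mem _
    obtain ⟨hwlt, hwK⟩ := X.mem_K_of_hWords hwmem
    have hstep : X.φ (ew w)⁻¹ ⟨_, hplt⟩ = d := by
      apply Fin.ext
      rw [map_inv, X.fwd_ew hwlt, ← hd]
      exact Nat.eq_of_beq_eq_true hT
    rw [← hstep, X.tr_smul]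
    exact mul_mem (mul_mem (inv_mem hwK) (ih par hpar (Nat.lt_trans hpar hj) ⟨_, hplt⟩ rfl))
      (inv_mem (inv_mem hwK))

theorem maximal : IsCoatom X.K := by
  classical
  haveI : Finite Fi23 := Fi23Order.card_bound.1
  have hsimple := Fi23Order.order_and_simple
  constructor
  · intro h
    have hc : Nat.card Fi23 = 2 ^ 11 * 3 ^ 13 := by
      rw [← X.card_K, h, Subgroup.card_top]
    rw [hsimple.2] at hc
    norm_num at hc
  · intro M hM
    obtain ⟨g, hgM, hgK⟩ := SetLike.exists_of_lt hM
    -- the points whose transposition lies in the larger subgroup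
    let T : Set (Fin 31671) := {c | X.tr c ∈ M}
    have hST : ∀ c ∈ S, c ∈ T := fun c hc => hM.le (X.first_mem c hc)
    have hTinv : ∀ m ∈ M, ∀ c ∈ T, X.φ m c ∈ T := fun m hm c hc => by
      show X.tr _ ∈ M
      rw [X.tr_smul]
      exact mul_mem (mul_mem hm hc) (inv_mem hm)
    obtain ⟨q, hqT, hqS⟩ : ∃ q ∈ T, q ∉ S := by
      by_contra hall
      push Not at hall
      apply hgK
      intro c hc
      apply hall
      rw [← map_inv]
      exact hTinv _ (inv_mem hgM) c (hST c hc)
    have hroot : ∀ c : Fin 31671, ∃ r : Fin 31671, rootIdx c < roots.length ∧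
        roots.getD (rootIdx c) 31671 = r ∧ (c ∈ T ↔ r ∈ T) ∧ (r ∈ S → c ∈ S) := by
      suffices h : ∀ d, ∀ c : Fin 31671, depth c = d → ∃ r : Fin 31671,
          rootIdx c < roots.length ∧ roots.getD (rootIdx c) 31671 = r ∧ (c ∈ T ↔ r ∈ T) ∧
            (r ∈ S → c ∈ S) from fun c => h _ c rfl
      intro d
      induction d using Nat.strong_induction_on with
      | _ d ih =>
      intro c hd
      have h := tree_ok c c.2
      simp only [treeOK, force_eq, gate_eq, Bool.and_eq_true] at h
      obtain ⟨hlt, h⟩ := h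
      have hlt := Nat.ble_eq.mp hlt
      rcases eq_or_ne (depth (c : Nat)) 0 with h0 | h0
      · rw [h0] at h
        exact ⟨c, hlt, Nat.eq_of_beq_eq_true h, Iff.rfl, id⟩
      · have hb0 : Nat.beq (depth (c : Nat)) 0 = false := by
          cases hbb : Nat.beq (depth (c : Nat)) 0
          · rfl
          · exact absurd (Nat.eq_of_beq_eq_true hbb) h0
        rw [hb0] at h
        simp only [Bool.and_eq_true] at h
        obtain ⟨hp, hg', hdep, hri, hstep⟩ := h
        set p : Fin 31671 := ⟨_, Nat.ble_eq.mp hp⟩ with hpdef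
        obtain ⟨r, -, hr, hiff, hS⟩ := ih (depth (p : Nat)) (hd ▸ Nat.ble_eq.mp hdep) p rfl
        set w := word hWords (Nat.mod (Nat.div (get48 treeStore c) 1048576) 16) with hwdef
        have hwmem : w ∈ hWords := by
          have hlen : treeCount ≤ hWords.length := by decide +kernel
          rw [hwdef, word_eq, List.getD_eq_getElem _ _
            (Nat.lt_of_lt_of_le (Nat.ble_eq.mp hg') hlen)]
          exact List.getElem_mem _
        obtain ⟨hwlt, hwK⟩ := X.mem_K_of_hWords hwmem
        have e : X.φ (ew w)⁻¹ p = c := by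
          apply Fin.ext
          rw [map_inv, X.fwd_ew hwlt]
          exact Nat.eq_of_beq_eq_true hstep
        have e' : X.φ (ew w) c = p := by
          rw [← e, map_inv]
          show X.φ (ew w) ((X.φ (ew w)).symm p) = p
          rw [Equiv.apply_symm_apply]
        have hri' : rootIdx (p : Nat) = rootIdx c := Nat.eq_of_beq_eq_true hri
        refine ⟨r, hlt, hri' ▸ hr, ⟨fun hc => hiff.1 ?_, fun hrT => ?_⟩, fun hrS => ?_⟩
        · rw [← e']
          exact hTinv _ (hM.le hwK) c hc
        · rw [← e]
          exact hTinv _ (hM.le (inv_mem hwK)) p (hiff.2 hrT)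
        · rw [← e]
          exact X.maps_S (inv_mem hwK) (hS hrS)
    -- every orbit meets it
    have hall : ∀ c, c ∈ T := by
      obtain ⟨r, hrlt, hr, hiff, hS⟩ := hroot q
      have hne : rootIdx (q : Nat) ≠ 0 := by
        intro h0
        apply hqS
        apply hS
        show inF (r : Nat) = true
        rw [← hr, h0]
        exact root_in
      have hlen : roots.length = 3 := by decide +kernel
      have hedges : edgesOK (rootIdx (q : Nat)) = true := by
        rcases (show rootIdx (q : Nat) = 1 ∨ rootIdx (q : Nat) = 2 by omega) with h | h <;> rw [h]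
        · exact edges_ok.1
        · exact edges_ok.2
      set j := rootIdx (q : Nat) with hj
      simp only [edgesOK, Bool.and_eq_true] at hedges
      obtain ⟨⟨hend, hu⟩, hspread⟩ := hedges
      have hu : ∀ x ∈ rootPaths.getD j [], x < 10 :=
        fun x hx => Nat.ble_eq.mp (List.all_eq_true.1 hu x hx)
      have hdT : Fi23Transp.el (ptLetters (rootPaths.getD j [])) ∈ M := by
        rw [X.el_ptLetters hu r ((Nat.eq_of_beq_eq_true hend).trans hr)]
        exact hiff.1 hqT
      have key : ∀ (es : List (Nat × Nat)) (known : List Nat),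
          (∀ i ∈ known, ∃ s : Fin 31671, roots.getD i 31671 = s ∧ s ∈ T) →
          ∀ i ∈ spread (ptCode (rootPaths.getD j [])) es known,
            ∃ s : Fin 31671, roots.getD i 31671 = s ∧ s ∈ T := by
        intro es
        induction es with
        | nil => intro known h; exact h
        | cons uv t ih =>
          obtain ⟨u, v⟩ := uv
          intro known h
          show ∀ i ∈ spread _ t _, _
          apply ih
          split_ifs with hcond
          · simp only [Bool.and_eq_true] at hcond
            obtain ⟨⟨⟨hk, hu'⟩, hv⟩, hT⟩ := hcond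
            intro i hi
            rcases List.mem_cons.1 hi with rfl | hi
            · obtain ⟨s, hs, hsT⟩ := h _ (List.contains_iff_mem.1 hk)
              let cu : Fin 31671 := ⟨u, Nat.ble_eq.mp hu'⟩
              let cv : Fin 31671 := ⟨v, Nat.ble_eq.mp hv⟩
              obtain ⟨ru, -, hru, hiu, -⟩ := hroot cu
              obtain ⟨rv, -, hrv, hiv, -⟩ := hroot cv
              have hcu : cu ∈ T := hiu.2 (by
                rwa [show ru = s from Fin.ext (hru.symm.trans hs)])
              refine ⟨rv, hrv, hiv.1 ?_⟩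
              have e : X.φ (Fi23Transp.el (ptLetters (rootPaths.getD j [])))⁻¹ cu = cv := by
                apply Fin.ext
                rw [map_inv, X.hfwd]
                exact Nat.eq_of_beq_eq_true hT
              rw [← e]
              exact hTinv _ (inv_mem hdT) cu hcu
            · exact h i hi
          · exact h
      intro c
      obtain ⟨rc, hclt, hrc, hic, -⟩ := hroot c
      obtain ⟨s, hs, hsT⟩ := key _ [0, j] (fun i hi => by
        rcases List.mem_cons.1 hi with rfl | hi
        · exact ⟨⟨140, by norm_num⟩, by decide +kernel, hST _ (by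
            show inF 140 = true
            decide +kernel)⟩
        · rw [List.mem_singleton] at hi
          subst hi
          exact ⟨r, hr, hiff.1 hqT⟩) (rootIdx (c : Nat))
        (List.contains_iff_mem.1 (List.all_eq_true.1 hspread _ (List.mem_range.2 hclt)))
      exact hic.2 (by rwa [show rc = s from Fin.ext (hrc.symm.trans hs)])
    -- all conjugates of the central involution generate
    haveI := hsimple.1
    rcases Subgroup.Normal.eq_bot_or_eq_top
      (Subgroup.normalClosure_normal (s := ({Fi23Transp.z} : Set Fi23))) with h | h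
    · exfalso
      apply Fi23Transp.main.2.2.1
      exact Subgroup.mem_bot.1 (h ▸ Subgroup.subset_normalClosure (Set.mem_singleton _))
    · rw [eq_top_iff, ← h, Subgroup.normalClosure, Subgroup.closure_le]
      intro x hx
      obtain ⟨y, hy, hyx⟩ := Group.mem_conjugatesOfSet_iff.1 hx
      rw [Set.mem_singleton_iff] at hy
      subst hy
      obtain ⟨a, rfl⟩ := isConj_iff.1 hyx
      rw [← X.tr_eq (g := a) rfl]
      exact hall _

end Ctx

theorem exists_example :
    ∃ (G : Type) (_ : Group G) (_ : Finite G) (S H : Subgroup G), S.Normal ∧ IsSimpleGroup S ∧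
      ¬ IsMulCommutative S ∧ Subgroup.centralizer (S : Set G) = ⊥ ∧ IsCoatom H ∧
      derivedSeries H 10 ≠ derivedSeries H 9 := by
  classical
  obtain ⟨X⟩ := exists_ctx
  haveI : Finite Fi23 := Fi23Order.card_bound.1
  have hsimple := Fi23Order.order_and_simple
  haveI := hsimple.1
  have hnc : ¬ IsMulCommutative Fi23 := by
    intro h
    apply X.ninth_ne_bot
    rw [eq_bot_iff]
    calc derivedSeries X.K 9 ≤ derivedSeries X.K 1 := derivedSeries_antitone _ (by norm_num)
      _ ≤ ⊥ := by
        rw [derivedSeries_one, commutator_def, Subgroup.commutator_le]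
        intro a _ b _
        rw [Subgroup.mem_bot, commutatorElement_eq_one_iff_mul_comm]
        exact Subtype.ext (h.is_comm.comm _ _)
  refine ⟨Fi23, inferInstance, inferInstance, ⊤, X.K, inferInstance, ?_, ?_, ?_, X.maximal, X.derived⟩
  · exact Subgroup.topEquiv.isSimpleGroup
  · intro h
    exact hnc ⟨⟨fun a b => congrArg Subtype.val
      (h.is_comm.comm (⟨a, Subgroup.mem_top a⟩ : (⊤ : Subgroup Fi23)) ⟨b, Subgroup.mem_top b⟩)⟩⟩
  · rw [Subgroup.coe_top, Subgroup.centralizer_univ]
    rcases Subgroup.Normal.eq_bot_or_eq_top (inferInstance : (Subgroup.center Fi23).Normal) with h | h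
    · exact h
    · exact absurd ⟨⟨fun a b => ((Subgroup.mem_center_iff.1 (h ▸ Subgroup.mem_top a)) b).symm⟩⟩ hnc

end Cfsg.Agent.CosetCert.Fi23H10
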