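import Cfsg.Agent.CosetCert.Fi23H10.Basic
import Cfsg.Agent.CosetCert.Fi23H10.Check
import Cfsg.Agent.CosetCert.BaseFix
import Cfsg.Agent.CosetCert.LevelExact

/-!
The order of the subgroup fixing the set of transpositions.
-/

set_option maxRecDepth 100000

namespace Cfsg.Agent.CosetCert.Fi23H10.Ctx

open Cfsg.Agent.CosetCert Cfsg.Spor

variable (X : Ctx)

/-- The set of points. -/
def S : Set (Fin 31671) := {c | inF (c : Nat) = true}

/-- The subgroup mapping the set to itself. -/
noncomputable def K : Subgroup Fi23 where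
  carrier := {g | ∀ c ∈ S, (X.φ g)⁻¹ c ∈ S}
  one_mem' := fun c hc => by simpa using hc
  mul_mem' := fun {a b} ha hb c hc => by
    rw [map_mul, mul_inv_rev, Equiv.Perm.mul_apply]
    exact hb _ (ha c hc)
  inv_mem' := fun {a} ha c hc => by
    classical
    obtain ⟨⟨d, hd⟩, hdc⟩ := Finite.injective_iff_surjective.1
      (show Function.Injective fun d : S => (⟨(X.φ a)⁻¹ d, ha d d.2⟩ : S) from
        fun d e h => Subtype.ext ((X.φ a)⁻¹.injective (congrArg Subtype.val h))) ⟨c, hc⟩
    have e : (X.φ a)⁻¹ d = c := congrArg Subtype.val hdc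
    rw [map_inv, inv_inv, ← e]
    show X.φ a ((X.φ a).symm d) ∈ S
    rw [Equiv.apply_symm_apply]
    exact hd

theorem maps_S {g : Fi23} (hg : g ∈ X.K) {c : Fin 31671} (hc : c ∈ S) : X.φ g c ∈ S := by
  have h := inv_mem hg
  have := h c hc
  rwa [map_inv, inv_inv] at this

/-- Membership of the points of the set. -/
theorem fp_mem {i : Nat} (hi : i < 324) :
    fp i < 31671 ∧ inF (fp i) = true ∧ get48 fPosStore (fp i) = i := by
  have h := (allFrom_iff _ _ _).1 f_ok i (Nat.zero_le _) (by omega)
  simp only [fOK, force_eq, gate_eq, Bool.and_eq_true] at h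
  have e := Nat.eq_of_beq_eq_true h.2
  refine ⟨Nat.ble_eq.mp h.1, ?_, e⟩
  simp only [inF, force_eq, gate_eq, Bool.and_eq_true, e]
  exact ⟨Nat.ble_eq.mpr hi, Nat.beq_refl _⟩

theorem exists_fp {c : Fin 31671} (hc : c ∈ S) : ∃ i, i < 324 ∧ fp i = c := by
  have h : inF (c : Nat) = true := hc
  simp only [inF, force_eq, gate_eq, Bool.and_eq_true] at h
  exact ⟨_, Nat.ble_eq.mp h.1, Nat.eq_of_beq_eq_true h.2⟩

theorem mem_K_of_inH {w : List Nat} (h : inH w = true) :
    (∀ x ∈ w, x < 10) ∧ ew w ∈ X.K := by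
  simp only [inH, gate_eq, Bool.and_eq_true] at h
  have hw : ∀ x ∈ w, x < 10 := fun x hx => Nat.ble_eq.mp (List.all_eq_true.1 h.1 x hx)
  refine ⟨hw, fun c hc => ?_⟩
  obtain ⟨i, hi, e⟩ := exists_fp hc
  show inF (((X.φ (ew w))⁻¹ c : Fin 31671) : Nat) = true
  rw [X.fwd_ew hw, ← e]
  exact (allFrom_iff _ _ _).1 h.2 i (Nat.zero_le _) (by omega)

theorem mem_K_of_hWords {w : List Nat} (h : w ∈ hWords) : (∀ x ∈ w, x < 10) ∧ ew w ∈ X.K :=
  X.mem_K_of_inH (List.all_eq_true.1 hWords_ok w h)

/-- The elements of the subgroup fixing the listed points. -/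
noncomputable def fixK (bs : List Nat) : Subgroup Fi23 where
  carrier := {g | g ∈ X.K ∧ ∀ c : Fin 31671, (c : Nat) ∈ bs → X.φ g c = c}
  one_mem' := ⟨one_mem _, fun c _ => by rw [map_one]; rfl⟩
  mul_mem' := fun {a b} ha hb => ⟨mul_mem ha.1 hb.1, fun c hc => by
    rw [map_mul, Equiv.Perm.mul_apply, hb.2 c hc, ha.2 c hc]⟩
  inv_mem' := fun {a} ha => ⟨inv_mem ha.1, fun c hc => by
    rw [map_inv, Equiv.Perm.inv_eq_iff_eq, ha.2 c hc]⟩

theorem fixK_nil : X.fixK [] = X.K :=
  le_antisymm (fun _ h => h.1) fun _ h => ⟨h, fun _ hc => absurd hc List.not_mem_nil⟩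

include X in
theorem exact_point (pre : List Data.Level) (G : Data.Level) (post : List Data.Level)
    (hsplit : gLevels = pre ++ G :: post) (hglen : G.gens.length < 256)
    (hsize : G.size ≤ 4294967296) {w : List Nat} (hw : ∀ x ∈ w, x < 10)
    (hfix : ∀ b ∈ pre.map Data.Level.base, D.fwd w b = b) :
    ∃ j, j < G.size ∧ pt G j = D.fwd w G.base := by
  have h := Data.level_exact Fi23Index31671.valid Fi23Index31671.spells X.φ X.hfwd
    Fi23Order.card_bound.1 Fi23Order.card_bound.2 (by norm_num) pre G post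
    (hsplit ▸ gLevels_ok) (hsplit ▸ gLevels_prod) hglen hsize (w.map Fi23Index31671.dec)
    (by rw [code_dec w hw]; exact List.all_eq_true.2 fun x hx => Nat.ble_eq.mpr (hw x hx))
    (by rw [code_dec w hw]; exact hfix)
  rw [code_dec w hw] at h
  exact h

theorem card_step (pre : List Data.Level) (G : Data.Level) (post : List Data.Level)
    (H : Data.Level) (hsplit : gLevels = pre ++ G :: post) (hglen : G.gens.length < 256)
    (hsize : G.size ≤ 4294967296) (hbase : H.base = G.base)
    (hgens : H.gens.all (fun w => hWords.contains w) = true)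
    (hnarrow : allFrom (narrowOK G H) 0 G.size = true)
    (hb : H.base < 31671) (hg : D.checkGens (pre.map Data.Level.base) H = true)
    (hp : ∀ j, j < H.size → D.checkPoint H j = true) :
    Nat.card (X.fixK (pre.map Data.Level.base)) =
      H.size * Nat.card (X.fixK (pre.map Data.Level.base ++ [H.base])) := by
  classical
  set bs := pre.map Data.Level.base with hbs
  let A := X.fixK bs
  letI : MulAction A (Fin 31671) := MulAction.compHom _ (X.φ.comp A.subtype)
  have hsm : ∀ (g : A) (c : Fin 31671), g • c = X.φ (g : Fi23) c := fun _ _ => rfl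
  let b : Fin 31671 := ⟨H.base, hb⟩
  have hspec : ∀ j, j < H.size → pt H j < 31671 ∧ H.pos (pt H j) = j ∧
      (j = 0 → pt H j = H.base) ∧
        (j ≠ 0 → ∃ par, par < j ∧ ∃ w ∈ H.gens, D.fwd w (pt H par) = pt H j) := by
    intro j hj
    have h1 := hp j hj
    simp only [Data.checkPoint, force_eq, gate_eq, Bool.and_eq_true] at h1
    obtain ⟨hpos, hlt, h1⟩ := h1
    refine ⟨Nat.ble_eq.mp hlt, Nat.eq_of_beq_eq_true hpos, ?_, ?_⟩
    · rintro rfl
      exact Nat.eq_of_beq_eq_true h1
    · intro hj0
      have : Nat.beq j 0 = false := by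
        cases hbb : Nat.beq j 0
        · rfl
        · exact absurd (Nat.eq_of_beq_eq_true hbb) hj0
      rw [this] at h1
      simp only [Bool.and_eq_true] at h1
      obtain ⟨hpar, hgl, hT⟩ := h1
      refine ⟨_, Nat.ble_eq.mp hpar, _, ?_, Nat.eq_of_beq_eq_true hT⟩
      rw [word_eq, List.getD_eq_getElem _ _ (Nat.ble_eq.mp hgl)]
      exact List.getElem_mem _
  have horb : ∀ j (hj : j < H.size),
      (⟨pt H j, (hspec j hj).1⟩ : Fin 31671) ∈ MulAction.orbit A b := by
    intro j
    induction j using Nat.strong_induction_on with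
    | _ j ihj =>
      intro hj
      rcases eq_or_ne j 0 with rfl | hj0
      · have : (⟨pt H 0, (hspec 0 hj).1⟩ : Fin 31671) = b := Fin.ext ((hspec 0 hj).2.2.1 rfl)
        rw [this]; exact MulAction.mem_orbit_self _
      · obtain ⟨par, hpar, w, hw, hT⟩ := (hspec j hj).2.2.2 hj0
        have hmem : w ∈ hWords := List.contains_iff_mem.1 (List.all_eq_true.1 hgens w hw)
        obtain ⟨hwlt, hwK⟩ := X.mem_K_of_hWords hmem
        have hfix := (Bool.and_eq_true_iff.1 (List.all_eq_true.1 hg w hw)).2
        have hA : (ew w)⁻¹ ∈ A := ⟨inv_mem hwK, fun c hc => Fin.ext (by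
          rw [map_inv, X.fwd_ew hwlt]
          exact Nat.eq_of_beq_eq_true (List.all_eq_true.1 hfix _ hc))⟩
        have hprev := ihj par hpar (hpar.trans hj)
        have : (⟨pt H j, (hspec j hj).1⟩ : Fin 31671) =
            (⟨_, hA⟩ : A) • (⟨pt H par, (hspec par (hpar.trans hj)).1⟩ : Fin 31671) := by
          apply Fin.ext
          rw [hsm]
          show pt H j = ((X.φ (ew w)⁻¹ _ : Fin 31671) : Nat)
          rw [map_inv, X.fwd_ew hwlt]
          exact hT.symm
        rw [this]
        exact MulAction.mem_orbit_of_mem_orbit _ hprev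
  have hcard : (MulAction.orbit A b).ncard = H.size := by
    have e : MulAction.orbit A b =
        Set.range fun j : Fin H.size => (⟨pt H j, (hspec j j.2).1⟩ : Fin 31671) := by
      ext c
      constructor
      · rintro ⟨g, rfl⟩
        have hgi := inv_mem g.2
        obtain ⟨w, hw, e⟩ := X.exists_word (g : Fi23)⁻¹
        have hφ : ∀ c : Fin 31671, D.fwd w c = X.φ (g : Fi23) c := fun c => by
          rw [← X.fwd_ew hw, ← e, map_inv, inv_inv]
        obtain ⟨j, hj, hjb⟩ := X.exact_point pre G post hsplit hglen hsize hw (fun x hx => by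
          obtain ⟨L, hL, rfl⟩ := List.mem_map.1 hx
          have hLb : L.base < 31671 := by
            obtain ⟨k, hk, rfl⟩ := List.getElem_of_mem hL
            have h2 := (Data.levelsOK_split.1 (hsplit ▸ gLevels_ok)).1
            have h3 := Data.levelsOK_split (pre := pre.take k) (rest := pre.drop k) (bs := []) (D := D)
            rw [List.take_append_drop] at h3
            have h4 := (h3.1 h2).2
            rw [List.drop_eq_getElem_cons hk] at h4
            exact h4.1.1
          have h5 := g.2.2 ⟨L.base, hLb⟩ hx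
          exact (hφ ⟨L.base, hLb⟩).trans (congrArg Fin.val h5))
        have himg : D.fwd w G.base = ((g • b : Fin 31671) : Nat) := by
          rw [← hbase, hsm]
          exact hφ b
        rw [himg] at hjb
        have hn := (allFrom_iff _ _ _).1 hnarrow j (Nat.zero_le _) (by omega)
        simp only [narrowOK, force_eq, gate_eq, Bool.true_and, Bool.or_eq_true,
          Bool.and_eq_true, Bool.not_eq_true'] at hn
        rw [hjb] at hn
        rcases hn with ⟨h1, h2⟩ | ⟨h1, h2⟩
        · exfalso
          rw [← hbase] at h1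
          have h6 : inF ((X.φ (g : Fi23) b : Fin 31671) : Nat) = true :=
            X.maps_S g.2.1 (show b ∈ S from h1)
          rw [hsm] at h2
          rw [h6] at h2
          exact Bool.noConfusion h2
        · exact ⟨⟨_, Nat.ble_eq.mp h1⟩, Fin.ext (Nat.eq_of_beq_eq_true h2)⟩
      · rintro ⟨j, rfl⟩
        exact horb j j.2
    have hinj : Function.Injective fun j : Fin H.size =>
        (⟨pt H j, (hspec j j.2).1⟩ : Fin 31671) := by
      intro i j hij
      have : pt H i = pt H j := congrArg Fin.val hij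
      apply Fin.ext
      rw [← (hspec i i.2).2.1, ← (hspec j j.2).2.1, this]
    rw [e, ← Nat.card_coe_set_eq, Nat.card_range_of_injective hinj, Nat.card_fin]
  have hstab : Nat.card (X.fixK (bs ++ [H.base])) = Nat.card (MulAction.stabilizer A b) := by
    refine Nat.card_congr
      { toFun := fun g => ⟨⟨g.1, g.2.1, fun c hc => g.2.2 c (List.mem_append_left _ hc)⟩,
          (hsm _ b).trans (g.2.2 b (List.mem_append_right _ (List.mem_singleton.2 rfl)))⟩
        invFun := fun g => ⟨g.1.1, g.1.2.1, fun c hc => ?_⟩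
        left_inv := fun _ => rfl
        right_inv := fun _ => rfl }
    rcases List.mem_append.1 hc with hc | hc
    · exact g.1.2.2 c hc
    · have : c = b := Fin.ext (List.mem_singleton.1 hc)
      rw [this]
      exact (hsm g.1 b).symm.trans g.2
  rw [hstab, ← hcard, ← MulAction.index_stabilizer, mul_comm, Subgroup.card_mul_index]

end Cfsg.Agent.CosetCert.Fi23H10.Ctx
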