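import Cfsg.Agent.CosetCert.Fi23H10.Defs

/-! Generated: checks. -/

set_option Elab.async false
set_option maxRecDepth 100000

namespace Cfsg.Agent.CosetCert.Fi23H10

theorem treeAt0 : allFrom treeOK 0 2000 = true := by decide +kernel

theorem treeAt2000 : allFrom treeOK 2000 2000 = true := by decide +kernel

theorem treeAt4000 : allFrom treeOK 4000 2000 = true := by decide +kernel

theorem treeAt6000 : allFrom treeOK 6000 2000 = true := by decide +kernel

theorem treeAt8000 : allFrom treeOK 8000 2000 = true := by decide +kernel

theorem treeAt10000 : allFrom treeOK 10000 2000 = true := by decide +kernel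

theorem treeAt12000 : allFrom treeOK 12000 2000 = true := by decide +kernel

theorem treeAt14000 : allFrom treeOK 14000 2000 = true := by decide +kernel

end Cfsg.Agent.CosetCert.Fi23H10
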